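import Cfsg.Agent.H262.ElSympU
import Cfsg.Agent.H124.LinCyc

/-!
# S5734: cyclic `u`-subgroups of the orthogonal groups of minus type, `u` of order `m`
-/

set_option autoImplicit false

namespace Cfsg.Agent.H621.Dg

open Cfsg Cfsg.Geo Module Cfsg.Agent.H262.El Cfsg.Agent.H124.LinCyc
open scoped Matrix MatrixGroups

/-- all `u`-subgroups are cyclic -/
def Cyc (u : ℕ) (R : Type*) [Group R] : Prop := ∀ P : Subgroup R, IsPGroup u P → IsCyclic P

theorem Cyc.of_injective {r : ℕ} {R X : Type*} [Group R] [Group X] (h : Cyc r X) (f : R →* X)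
    (hf : Function.Injective f) : Cyc r R := fun P hP => by
  have h1 := h (P.map f) (hP.map f)
  exact isCyclic_of_injective ((P.equivMapOfInjective f hf).toMonoidHom) (P.equivMapOfInjective f hf).injective

theorem Cyc.of_sylow {r : ℕ} [Fact r.Prime] {X : Type*} [Group X] [Finite X] (h : ∃ P : Sylow r X, IsCyclic P) :
    Cyc r X := fun Q hQ => by
  obtain ⟨P, hP⟩ := h
  obtain ⟨S, hS⟩ := hQ.exists_le_sylow
  have h1 : IsCyclic S := isCyclic_of_surjective (P.equiv S).toMonoidHom (P.equiv S).surjective
  exact isCyclic_of_injective (Subgroup.inclusion hS) (Subgroup.inclusion_injective hS)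

theorem Cyc.of_surjective {r : ℕ} [Fact r.Prime] {X K : Type*} [Group X] [Group K] [Finite X] [Finite K]
    (h : Cyc r X) (π : X →* K) (hπ : Function.Surjective π) : Cyc r K := by
  obtain ⟨Q⟩ : Nonempty (Sylow r X) := inferInstance
  refine Cyc.of_sylow ⟨Q.mapSurjective hπ, ?_⟩
  have hQ : IsCyclic Q := h Q Q.isPGroup'
  exact isCyclic_of_surjective (π.subgroupMap (Q : Subgroup X)) (π.subgroupMap_surjective _)

section

variable {F : Type*} [Field F] [Fintype F] {V : Type*} [AddCommGroup V] [Module F V] [Finite V]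
  {A : Type*} [Group A] {p e : ℕ} [hp : Fact p.Prime]

/-- **A `p`-group of linear maps in dimension `2 e` without fixed point free elements of order `p` is cyclic.** -/
theorem isCyclic_of_two [Finite A] (hp2 : p ≠ 2) (he : 0 < e) (hiff : ∀ j, p ∣ Fintype.card F ^ j - 1 ↔ e ∣ j)
    (hdim : finrank F V = 2 * e) (hA : IsPGroup p A) (σ : A →* (V ≃ₗ[F] V)) (hσ : Function.Injective σ)
    (hfix : ∀ a : A, a ^ p = 1 → ∃ v : V, v ≠ 0 ∧ σ a v = v) : IsCyclic A := by
  by_contra hnc
  obtain ⟨E, -, hE, hcE⟩ := S0126.result hp2 hA hnc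
  have hEp : IsPGroup p E := hA.to_subgroup E
  let τ : E →* (V ≃ₗ[F] V) := σ.comp E.subtype
  have hτ : Function.Injective τ := hσ.comp E.subtype_injective
  have hpF : (p : F) ≠ 0 := by
    intro h0
    obtain ⟨c, hc⟩ := CharP.exists F
    have hcp : c.Prime := CharP.char_is_prime F c
    have h1 : c ∣ p := (CharP.cast_eq_zero_iff F c p).1 h0
    have h2 : c = p := (Nat.prime_dvd_prime_iff_eq hcp hp.out).1 h1
    obtain ⟨n, -, hn⟩ := FiniteField.card F c
    apply not_dvd_card he hiff
    rw [hn, h2]
    exact dvd_pow_self p n.pos.ne'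
  -- dimension of the fixed space of a non-trivial element
  have hker : ∀ z : E, z ≠ 1 → finrank F (LinearMap.ker ((τ z).toLinearMap - 1)) = e := by
    intro z hz
    let τz : Subgroup.zpowers z →* (V ≃ₗ[F] V) := τ.comp (Subgroup.zpowers z).subtype
    have hmem : fix τz = LinearMap.ker ((τ z).toLinearMap - 1) := by
      ext v
      rw [LinearMap.mem_ker, LinearMap.sub_apply, sub_eq_zero]
      constructor
      · intro hv
        exact hv ⟨z, Subgroup.mem_zpowers z⟩
      · rintro hv ⟨a, k, rfl⟩
        change τ (z ^ k) v = v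
        rw [map_zpow]
        have h1 : τ z ∈ MulAction.stabilizer (V ≃ₗ[F] V) v := hv
        exact (MulAction.stabilizer (V ≃ₗ[F] V) v).zpow_mem h1 k
    have h1 : e ∣ finrank F V - finrank F (fix τz) := dvd_sub he hiff (hEp.to_subgroup _) τz
    rw [hmem, hdim] at h1
    have h2 : finrank F (LinearMap.ker ((τ z).toLinearMap - 1)) < finrank F V := by
      refine Submodule.finrank_lt fun htop => hz (hτ ?_)
      rw [map_one]
      ext v
      have h3 : v ∈ LinearMap.ker ((τ z).toLinearMap - 1) := htop ▸ Submodule.mem_top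
      rw [LinearMap.mem_ker, LinearMap.sub_apply, sub_eq_zero] at h3
      exact h3
    have h3 : 0 < finrank F (LinearMap.ker ((τ z).toLinearMap - 1)) := by
      obtain ⟨v, hv0, hv⟩ := hfix z (hE.2 z z.2)
      rw [Module.finrank_pos_iff]
      refine ⟨⟨v, ?_⟩, 0, fun h => hv0 (congrArg Subtype.val h)⟩
      rw [LinearMap.mem_ker, LinearMap.sub_apply, sub_eq_zero]
      exact hv
    rw [hdim] at h2
    obtain ⟨k, hk⟩ := h1
    have hk2 : k < 2 := by
      by_contra hcon
      have : e * 2 ≤ e * k := Nat.mul_le_mul_left _ (by omega)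
      omega
    have hk0 : k ≠ 0 := by
      rintro rfl
      omega
    have hk1 : k = 1 := by omega
    subst hk1
    omega
  have hcomm : ∀ a b : E, a * b = b * a := fun a b => hE.1.is_comm.comm a b
  have hexp : ∀ a : E, a ^ p = 1 := fun a => Subtype.ext (hE.2 a a.2)
  have hncE : ¬ IsCyclic E := by
    intro h1
    obtain ⟨g, hg⟩ := h1.exists_generator
    have h2 : orderOf g = p ^ 2 := by rw [← hcE, orderOf_eq_card_of_forall_mem_zpowers hg]
    have h3 : orderOf g ∣ p := orderOf_dvd_of_pow_eq_one (hexp g)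
    rw [h2] at h3
    have h4 := Nat.le_of_dvd hp.out.pos h3
    have := hp.out.one_lt
    nlinarith
  have hntE : Nontrivial E := by
    by_contra h
    rw [not_nontrivial_iff_subsingleton] at h
    exact hncE inferInstance
  obtain ⟨z, hz⟩ := exists_ne (1 : E)
  -- the commutator space of `z`
  set N : V →ₗ[F] V := (τ z).toLinearMap - 1 with hN
  have hNr : finrank F (LinearMap.range N) = e := by
    have := LinearMap.finrank_range_add_finrank_ker N
    rw [hdim, hker z hz] at this
    omega
  have hcv : ∀ (a b : E) (v : V), τ a (τ b v) = τ b (τ a v) := by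
    intro a b v
    rw [← LinearEquiv.mul_apply, ← LinearEquiv.mul_apply, ← map_mul, ← map_mul, hcomm]
  have hinv : ∀ a, ∀ u ∈ LinearMap.range N, τ a u ∈ LinearMap.range N := by
    rintro a _ ⟨v, rfl⟩
    refine ⟨τ a v, ?_⟩
    rw [hN, LinearMap.sub_apply, LinearMap.sub_apply, map_sub]
    change τ z (τ a v) - τ a v = τ a (τ z v) - τ a v
    rw [hcv]
  -- `z` has no fixed vector in its commutator space
  have hdis : ∀ v ∈ LinearMap.range N, τ z v = v → v = 0 := by
    rintro _ ⟨w, rfl⟩ hv
    have h1 : ∀ k : ℕ, ((τ z).toLinearMap ^ k) w = w + (k : F) • N w := by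
      intro k
      induction k with
      | zero => simp
      | succ k ih =>
        rw [pow_succ', Module.End.mul_apply, ih, map_add, map_smul]
        have h2 : (τ z).toLinearMap w = w + N w := by rw [hN, LinearMap.sub_apply]; simp
        have h3 : (τ z).toLinearMap (N w) = N w := hv
        rw [h2, h3]
        push_cast
        module
    have h2 : (τ z).toLinearMap ^ p = 1 := by
      have h3 : ∀ k : ℕ, (τ z).toLinearMap ^ k = (τ (z ^ k)).toLinearMap := by
        intro k
        induction k with
        | zero => rw [pow_zero, pow_zero, map_one]; rfl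
        | succ k ih => rw [pow_succ, pow_succ, map_mul, ih]; rfl
      rw [h3, hexp, map_one]
      rfl
    have h3 := h1 p
    rw [h2, Module.End.one_apply, left_eq_add, smul_eq_zero] at h3
    exact h3.resolve_left hpF
  -- the action on the commutator space is not faithful
  obtain ⟨k, hk1, hk⟩ : ∃ k : E, k ≠ 1 ∧ ∀ u ∈ LinearMap.range N, τ k u = u := by
    by_contra hcon
    push Not at hcon
    apply hncE
    refine isCyclic_of_small (V := LinearMap.range N) hp2 he hiff (by rw [hNr]; omega) hEp
      (restr τ (LinearMap.range N) hinv) ?_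
    rw [injective_iff_map_eq_one]
    intro a ha
    by_contra ha1
    obtain ⟨u, hu, hne⟩ := hcon a ha1
    apply hne
    have h1 : restr τ (LinearMap.range N) hinv a ⟨u, hu⟩ = ⟨u, hu⟩ := by rw [ha]; rfl
    exact congrArg Subtype.val h1
  -- the fixed space of `k` is the commutator space of `z`
  have hkfix : ∀ v, τ k v = v → v ∈ LinearMap.range N := by
    have h1 : LinearMap.range N = LinearMap.ker ((τ k).toLinearMap - 1) := by
      refine Submodule.eq_of_le_of_finrank_eq ?_ ?_
      · intro u hu
        rw [LinearMap.mem_ker, LinearMap.sub_apply, sub_eq_zero]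
        exact hk u hu
      · rw [hNr, hker k hk1]
    intro v hv
    rw [h1, LinearMap.mem_ker, LinearMap.sub_apply, sub_eq_zero]
    exact hv
  -- the product has no fixed vectors
  obtain ⟨v, hv0, hv⟩ := hfix (z * k : E) (hE.2 _ (z * k).2)
  have hv' : τ (z * k) v = v := hv
  have hzk : τ z (τ k v) = v := by
    rw [← LinearEquiv.mul_apply, ← map_mul]
    exact hv'
  have hkerz : ∀ w, w ∈ LinearMap.ker N ↔ τ z w = w := by
    intro w
    rw [hN, LinearMap.mem_ker, LinearMap.sub_apply, sub_eq_zero]
    exact Iff.rfl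
  have htop : LinearMap.ker N ⊔ LinearMap.range N = ⊤ := by
    refine Submodule.eq_top_of_disjoint _ _ ?_ ?_
    · rw [hdim, hNr, hker z hz]
      omega
    · rw [Submodule.disjoint_def]
      exact fun w h1 h2 => hdis w h2 ((hkerz w).1 h1)
  have hvt : v ∈ LinearMap.ker N ⊔ LinearMap.range N := htop ▸ Submodule.mem_top
  obtain ⟨w, hw, u, hu, rfl⟩ := Submodule.mem_sup.1 hvt
  have hw' := (hkerz w).1 hw
  have h1 : τ z (τ k w) = τ k w := by rw [hcv, hw']
  rw [map_add, map_add, hk u hu, h1] at hzk
  have h2 : τ k w - w = u - τ z u := by rw [sub_eq_sub_iff_add_eq_add, hzk, add_comm]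
  have h3 : τ k w - w ∈ LinearMap.range N := by
    rw [h2]
    exact Submodule.sub_mem _ hu (hinv z u hu)
  have h4 : τ k w - w = 0 := hdis _ h3 (by rw [map_sub, h1, hw'])
  have h5 : τ k w = w := sub_eq_zero.1 h4
  have h6 : w = 0 := hdis w (hkfix w h5) hw'
  have h7 : u = 0 := by
    refine hdis u hu ?_
    rw [h4] at h2
    exact (sub_eq_zero.1 h2.symm).symm
  exact hv0 (by rw [h6, h7, add_zero])

end

end Cfsg.Agent.H621.Dg
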