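import Cfsg.Agent.H251.GeoUMain
import Cfsg.Agent.H851.Dg.Big

/-!
# S5734: geometric subgroups of `PSU_n(q)` miss a large prime
-/

set_option autoImplicit false
set_option linter.unusedSectionVars false

namespace Cfsg.Agent.H621.Dg

open Cfsg Cfsg.Geo Cfsg.Agent.OrdDiv Cfsg.Agent.H851.Dg Cfsg.Agent.H251.GeoCard Cfsg.Agent.H251.GeoU
open scoped Matrix MatrixGroups

/-- (C3), `r = n` an odd prime, with a prime `s` such that `-q` has order `n - 2`. -/
theorem kill_field_full {F : Type*} [Field F] [Fintype F] {n q s : ℕ} (hF : Fintype.card F = q ^ 2) (hs : s.Prime)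
    (hord : orderOf (-(q : ZMod s)) = n - 2) (hno : Odd n) (hn : 5 ≤ n) (hr : n.Prime)
    {K : Subalgebra F (Matrix (Fin n) (Fin n) F)} (hK : IsFieldSubalgebra n K)
    (h : s ∣ Nat.card (subalgebraNormalizer K)) : False := by
  have hne : Nonempty (Fin n) := ⟨⟨0, by omega⟩⟩
  have hsq := not_dvd_of_ord hs hord (by omega)
  have hsge : n < s := by
    have h1 := dvd_pred_of_ord hs hord (by omega)
    obtain ⟨c, hc⟩ := h1
    have hs2 := hs.two_le
    have hc0 : c ≠ 0 := by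
      rintro rfl
      omega
    have hc1 : c ≠ 1 := by
      rintro rfl
      have h2 : s = n - 1 := by omega
      obtain ⟨k, hk⟩ := hno
      have h3 : 2 ∣ s := ⟨k, by omega⟩
      rcases (Nat.dvd_prime hs).1 h3 with h4 | h4 <;> omega
    have hc2 : 2 ≤ c := by omega
    have h3 : (n - 2) * 2 ≤ (n - 2) * c := Nat.mul_le_mul_left _ hc2
    omega
  rcases extension hr hK hs (not_dvd_card hF hs hsq) h with h1 | h1
  · omega
  · rw [nat_card_eq hF, Fintype.card_fin, Nat.div_self hr.pos] at h1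
    have h2 := ord_le_of_div (Nat.one_le_pow _ _ (Nat.one_le_pow _ _ (LieClassical.HermBasic.q_pos hF))) h1
    have hodd : Odd (n - 2) := by
      obtain ⟨k, hk⟩ := hno
      exact ⟨k - 1, by omega⟩
    have h3 : orderOf (((q ^ 2) ^ n : ℕ) : ZMod s) = n - 2 := by
      have h4 : (((q ^ 2) ^ n : ℕ) : ZMod s) = ((q ^ 2 : ℕ) : ZMod s) ^ n := by push_cast; rfl
      rw [h4, orderOf_pow' _ hr.ne_zero, ord_sq_odd hord hodd]
      have h5 : Nat.gcd (n - 2) n = 1 := by
        rw [← Nat.coprime_iff_gcd_eq_one, Nat.coprime_comm, hr.coprime_iff_not_dvd]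
        intro h6
        have := Nat.le_of_dvd (by omega) h6
        omega
      rw [h5, Nat.div_one]
    rw [h3] at h2
    omega

/-- **Geometric members of `SU_n(q)`, `n ≥ 4`, miss a large prime.** -/
theorem exists_big_psu {F : Type*} [Field F] [Fintype F] {n q : ℕ} (hF : Fintype.card F = q ^ 2) (hn : 4 ≤ n)
    (hbig : 2 ^ 8 ≤ q ^ n) {M : Subgroup (GL (Fin n) F)} (hM : InUnitaryClass n F q M) :
    ∃ v : ℕ, BigU (.psu n q) v ∧ ¬ v ∣ Nat.card M := by
  have h42 : ¬ (n = 4 ∧ q = 2) := by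
    rintro ⟨rfl, rfl⟩
    norm_num at hbig
  have h52 : ¬ (n = 5 ∧ q = 2) := by
    rintro ⟨rfl, rfl⟩
    norm_num at hbig
  obtain ⟨p, f, hp, hf, hq, hpF⟩ := exists_prime_power hF
  have hne : Nonempty (Fin n) := ⟨⟨0, by omega⟩⟩
  obtain ⟨m, hm, hmn, hnm, hm3⟩ : ∃ m, Odd m ∧ m ≤ n ∧ n ≤ m + 1 ∧ 3 ≤ m := by
    rcases Nat.even_or_odd n with ⟨k, hk⟩ | h
    · exact ⟨n - 1, ⟨k - 1, by omega⟩, by omega, by omega, by omega⟩
    · exact ⟨n, h, le_rfl, by omega, by omega⟩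
  obtain ⟨s, hs, hiff, hs1, hord⟩ := exists_big hp hf hm3 hm (by
    rintro ⟨h1, h2⟩
    rw [← hq] at h2
    have h3 : n = 4 := by omega
    exact h42 ⟨h3, h2⟩)
  rw [← hq] at hord
  have hsbig : n + 1 < s := by
    have h1 := Nat.le_of_dvd (by have := hs.two_le; omega) hs1
    have h2 : 2 * m * 1 ≤ 2 * m * f := Nat.mul_le_mul_left _ hf
    omega
  by_cases hsM : s ∣ Nat.card M
  swap
  · exact ⟨s, ⟨hs, by rw [hord]; omega, by rw [hord]; exact hmn⟩, hsM⟩
  rcases hM with hM | hM | hM | hM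
  · rcases hM with hM | hM | hM | hM | hM | hM | hM | hM
    · obtain ⟨W, hW0, hW, rfl⟩ := hM
      exact (kill_ts hF hs hord hm hn hnm hW0 hW hsM).elim
    · obtain ⟨W, hW0, hW, hW2, rfl⟩ := hM
      obtain ⟨hnm', hW1⟩ := kill_nd hF hs hord hm hn hnm hW0 hW2 hsM
      have hev : Even n := by
        obtain ⟨k, hk⟩ := hm
        exact ⟨k + 1, by omega⟩
      obtain ⟨v, hv, hvo, -, -, -⟩ := H149.NegPrime.exists_neg_prime (i := n) hp hq hf (by omega) (by omega)
      exact ⟨v, ⟨hv, by rw [hvo]; omega, hvo.le⟩, fun h => kill_point hF hv hvo hev hn hW1 h⟩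
    · obtain ⟨t, k, D, hD, rfl⟩ := hM
      exact (kill_decomp hF hs hord hm hn hnm (by omega) hD.decomp (dvd_left hsM)).elim
    · obtain ⟨k, D, hk, hD, -, rfl⟩ := hM
      exact (kill_decomp hF hs hord hm hn hnm (by omega) hD (dvd_left hsM)).elim
    · obtain ⟨F₀, r, P, hr, hro, hc, -, rfl⟩ := hM
      exact (kill_subfield hF hp hq hf hs hiff hord hm hn hnm hr.two_le hc (dvd_left hsM)).elim
    · obtain ⟨F₀, P, -, hc, -, rfl⟩ := hM
      exact (kill_subfield hF hp hq hf hs hiff hord hm hn hnm le_rfl hc (dvd_left hsM)).elim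
    · obtain ⟨F₀, P, ζ, -, hc, -, -, -, -, rfl⟩ := hM
      exact (kill_subfield hF hp hq hf hs hiff hord hm hn hnm le_rfl hc (dvd_left hsM)).elim
    · obtain ⟨r, R, p', e, k, hR, habs, -, -, -, hc, rfl⟩ := hM
      have ht : H920.IsType r k R := by
        rcases hc with ⟨h1, h2, -, h3⟩ | ⟨h1, -, h2, h3⟩
        · exact Or.inl ⟨h1, h2, h3⟩
        · exact Or.inr ⟨h1, h2, h3⟩
      exact (kill_symp hF hs hord hm hn hnm hsbig hR habs ht (dvd_left hsM)).elim
  · obtain ⟨r, K, hr, hro, hK, -, rfl⟩ := hM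
    have hr3 : 3 ≤ r := by
      have := hr.two_le
      obtain ⟨k, hk⟩ := hro
      omega
    rcases Nat.even_or_odd n with hev | hodd
    · have hnm' : n = m + 1 := by
        obtain ⟨k, hk⟩ := hm
        obtain ⟨l, hl⟩ := hev
        omega
      exact (kill_field_even hF hs hord hm hn hnm' (by omega) hr hr3 hK (dvd_left hsM)).elim
    · have hn5 : 5 ≤ n := by
        obtain ⟨l, hl⟩ := hodd
        omega
      obtain ⟨v, hv, hvo, -, hvp, -⟩ := H149.NegPrime.exists_neg_prime (i := n - 1) hp hq hf (by omega) (by omega)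
      by_cases hvM : v ∣ Nat.card (subalgebraNormalizer K ⊓ Cfsg.GU n F q : Subgroup (GL (Fin n) F))
      swap
      · exact ⟨v, ⟨hv, by rw [hvo]; omega, by rw [hvo]; omega⟩, hvM⟩
      obtain ⟨hvn, hrn⟩ := kill_field_odd hF hv hvo hodd hn5 hr hr3 hK (dvd_left hvM)
      subst hrn
      obtain ⟨w, hw, -, -, hwo⟩ := exists_big (m := r - 2) hp hf (by omega) (by
        obtain ⟨k, hk⟩ := hodd
        exact ⟨k - 1, by omega⟩) (by
        rintro ⟨h1, h2⟩
        rw [← hq] at h2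
        exact h52 ⟨by omega, h2⟩)
      rw [← hq] at hwo
      exact ⟨w, ⟨hw, by rw [hwo]; omega, by rw [hwo]; omega⟩,
        fun h => kill_field_full hF hw hwo hodd hn5 hr hK (dvd_left h)⟩
  · obtain ⟨n₁, n₂, e, P, f₁, f₂, h2, hlt, -, -, -, rfl⟩ := hM
    exact (kill_tensor hF hs hord hm hn hnm e P h2 hlt (dvd_left hsM)).elim
  · obtain ⟨k, t, e, P, f₁, hk, ht, -, -, -, rfl⟩ := hM
    exact (kill_wreath hF hs hord hm hn hnm (by omega) e P hk ht (dvd_left hsM)).elim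

/-- **The row `PSU_n(q)`.** -/
theorem geo_psu {F : Type*} [Field F] [Fintype F] {n q : ℕ} (hF : Fintype.card F = q ^ 2) (hn : 4 ≤ n)
    (hbig : 2 ^ 8 ≤ q ^ n) (M : Subgroup (Cfsg.PSU n F q)) (hM : M ≠ ⊤) :
    Cfsg.Agent.H851.Dg.Out (.psu n q) M ∨ Cfsg.Geo.InUnitaryResidualClass (Cfsg.Agent.H251.GeoU.pre M) := by
  rcases S5663.result (F := F) n q hF (by omega) (by
    rintro ⟨rfl, rfl⟩
    omega) (pre M) (pre_le M) (pre_proper M hM) with ⟨X, hX, hle⟩ | h
  · left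
    obtain ⟨v, hv, hv2⟩ := exists_big_psu hF hn hbig hX
    refine Or.inl ⟨v, hv, fun h => hv2 ?_⟩
    exact (h.trans (card_dvd_pre M)).trans (Subgroup.card_dvd_of_le hle)
  · exact Or.inr h

end Cfsg.Agent.H621.Dg
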